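import Cfsg.Agent.H198.FC.Defs
import Cfsg.Agent.H199.PslAut
set_option linter.all false

/-!
# S5764, L-AUT (helper602): from `ThmL` to `Aut(PSL_n(F))`

`HH n F` : the subgroup of `Perm (End V) × Aut(PSL_n(F))`, `V = Fⁿ`, of the pairs (ring automorphism or anti-automorphism
of `End V`, the induced automorphism of `PSL_n(F)`); both projections are injective, the second one is onto.
`stmtAutL : ThmL → StmtAutL`.
-/

set_option autoImplicit false
set_option linter.unusedSectionVars false

namespace Cfsg.Agent.H602.FC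

open Matrix Cfsg.Agent.H198.FC Cfsg.Agent.H199.PslAut
open Cfsg.Agent.ClassicalGeometry.AutPSL.Root
open Cfsg.Agent.ClassicalGeometry.AutPSL.Auto (fld itr)

section

variable {n : ℕ} {F : Type} [Field F]

/-- `Fⁿ` -/
abbrev V (n : ℕ) (F : Type) := Fin n → F

variable (n F) in
/-- matrices and endomorphisms -/
abbrev E : Matrix (Fin n) (Fin n) F ≃ₐ[F] R F (V n F) := Matrix.toLinAlgEquiv'

variable (n F) in
/-- units -/
noncomputable def U : GL (Fin n) F →* (R F (V n F))ˣ := (Units.mapEquiv (E n F : _ ≃* _)).toMonoidHom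

theorem coe_U (g : GL (Fin n) F) : ((U n F g : (R F (V n F))ˣ) : R F (V n F)) = E n F (g : Matrix (Fin n) (Fin n) F) := rfl

theorem coe_U_inv (g : GL (Fin n) F) : (((U n F g)⁻¹ : (R F (V n F))ˣ) : R F (V n F)) =
    E n F ((g⁻¹ : GL (Fin n) F) : Matrix (Fin n) (Fin n) F) := by
  rw [← map_inv]
  rfl

theorem cj_U (g : GL (Fin n) F) (M : Matrix (Fin n) (Fin n) F) :
    H198.FC.cj F (V n F) (U n F g) (E n F M) =
      E n F ((g : Matrix (Fin n) (Fin n) F) * M * ((g⁻¹ : GL (Fin n) F) : Matrix (Fin n) (Fin n) F)) := by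
  rw [cj_apply, coe_U, coe_U_inv, map_mul, map_mul]

variable (n F) in
/-- field automorphisms -/
noncomputable def fm : (F ≃+* F) →* Equiv.Perm (R F (V n F)) where
  toFun σ :=
    { toFun := fun X => E n F (((E n F).symm X).map σ)
      invFun := fun X => E n F (((E n F).symm X).map σ.symm)
      left_inv := fun X => by
        change E n F (((E n F).symm (E n F (((E n F).symm X).map σ))).map σ.symm) = X
        rw [AlgEquiv.symm_apply_apply, Matrix.map_map]
        have h : (σ.symm : F → F) ∘ σ = id := funext σ.symm_apply_apply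
        rw [h, Matrix.map_id, AlgEquiv.apply_symm_apply]
      right_inv := fun X => by
        change E n F (((E n F).symm (E n F (((E n F).symm X).map σ.symm))).map σ) = X
        rw [AlgEquiv.symm_apply_apply, Matrix.map_map]
        have h : (σ : F → F) ∘ σ.symm = id := funext σ.apply_symm_apply
        rw [h, Matrix.map_id, AlgEquiv.apply_symm_apply] }
  map_one' := by
    apply Equiv.ext
    intro X
    change E n F (((E n F).symm X).map id) = X
    rw [Matrix.map_id, AlgEquiv.apply_symm_apply]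
  map_mul' σ τ := by
    apply Equiv.ext
    intro X
    change E n F (((E n F).symm X).map (σ * τ : F ≃+* F)) =
      E n F (((E n F).symm (E n F (((E n F).symm X).map τ))).map σ)
    rw [AlgEquiv.symm_apply_apply, Matrix.map_map]
    rfl

theorem fm_E (σ : F ≃+* F) (M : Matrix (Fin n) (Fin n) F) : fm n F σ (E n F M) = E n F (M.map σ) := by
  change E n F (((E n F).symm (E n F M)).map σ) = _
  rw [AlgEquiv.symm_apply_apply]

variable (n F) in
/-- the transposition -/
noncomputable def tm : Equiv.Perm (R F (V n F)) where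
  toFun X := E n F ((E n F).symm X)ᵀ
  invFun X := E n F ((E n F).symm X)ᵀ
  left_inv X := by
    change E n F ((E n F).symm (E n F ((E n F).symm X)ᵀ))ᵀ = X
    rw [AlgEquiv.symm_apply_apply, transpose_transpose, AlgEquiv.apply_symm_apply]
  right_inv X := by
    change E n F ((E n F).symm (E n F ((E n F).symm X)ᵀ))ᵀ = X
    rw [AlgEquiv.symm_apply_apply, transpose_transpose, AlgEquiv.apply_symm_apply]

theorem tm_E (M : Matrix (Fin n) (Fin n) F) : tm n F (E n F M) = E n F Mᵀ := by
  change E n F ((E n F).symm (E n F M))ᵀ = _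
  rw [AlgEquiv.symm_apply_apply]

theorem perm_ext {f g : Equiv.Perm (R F (V n F))} (h : ∀ M, f (E n F M) = g (E n F M)) : f = g := by
  apply Equiv.ext
  intro X
  obtain ⟨M, rfl⟩ := (E n F).surjective X
  exact h M

theorem fm_mem (σ : F ≃+* F) : fm n F σ ∈ RP F (V n F) := by
  refine ⟨fun X Y => ?_, fun X Y => ?_⟩
  · obtain ⟨M, rfl⟩ := (E n F).surjective X
    obtain ⟨N, rfl⟩ := (E n F).surjective Y
    rw [← map_add, fm_E, fm_E, fm_E, ← map_add]
    congr 1
    ext i j
    exact map_add σ _ _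
  · obtain ⟨M, rfl⟩ := (E n F).surjective X
    obtain ⟨N, rfl⟩ := (E n F).surjective Y
    rw [← map_mul, fm_E, fm_E, fm_E, ← map_mul]
    congr 1
    exact Matrix.map_mul (f := (σ : F →+* F))

theorem tm_mem : tm n F ∈ RA F (V n F) := by
  refine ⟨fun X Y => ?_, Or.inr fun X Y => ?_⟩
  · obtain ⟨M, rfl⟩ := (E n F).surjective X
    obtain ⟨N, rfl⟩ := (E n F).surjective Y
    rw [← map_add, tm_E, tm_E, tm_E, ← map_add, transpose_add]
  · obtain ⟨M, rfl⟩ := (E n F).surjective X
    obtain ⟨N, rfl⟩ := (E n F).surjective Y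
    rw [← map_mul, tm_E, tm_E, tm_E, ← map_mul, transpose_mul]

variable (n F) in
/-- the pairs -/
abbrev GG := Equiv.Perm (R F (V n F)) × MulAut (Matrix.ProjectiveSpecialLinearGroup (Fin n) F)

variable (n F) in
/-- conjugations -/
noncomputable def A : GL (Fin n) F →* GG n F := ((H198.FC.cj F (V n F)).comp (U n F)).prod (Psi n F)

variable (n F) in
/-- field automorphisms -/
noncomputable def B : (F ≃+* F) →* GG n F := (fm n F).prod (phi n F)

variable (n F) in
/-- transposition -/
noncomputable def C : GG n F := (tm n F, iot n F)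

theorem BA (σ : F ≃+* F) (g : GL (Fin n) F) : B n F σ * A n F g = A n F (mapGL σ g) * B n F σ := by
  refine Prod.ext (perm_ext fun M => ?_) (phi_mul_Psi σ g)
  change fm n F σ (H198.FC.cj F (V n F) (U n F g) (E n F M)) = H198.FC.cj F (V n F) (U n F (mapGL σ g)) (fm n F σ (E n F M))
  rw [cj_U, fm_E, fm_E, cj_U, ← map_inv, coe_mapGL, coe_mapGL]
  congr 1
  change ((g : Matrix (Fin n) (Fin n) F) * M * ((g⁻¹ : GL (Fin n) F) : Matrix (Fin n) (Fin n) F)).map (σ : F →+* F) =
    (g : Matrix (Fin n) (Fin n) F).map (σ : F →+* F) * M.map (σ : F →+* F) *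
      ((g⁻¹ : GL (Fin n) F) : Matrix (Fin n) (Fin n) F).map (σ : F →+* F)
  rw [Matrix.map_mul, Matrix.map_mul]

theorem CA (g : GL (Fin n) F) : C n F * A n F g = A n F (itGL g) * C n F := by
  refine Prod.ext (perm_ext fun M => ?_) (iot_mul_Psi g)
  change tm n F (H198.FC.cj F (V n F) (U n F g) (E n F M)) = H198.FC.cj F (V n F) (U n F (itGL g)) (tm n F (E n F M))
  rw [cj_U, tm_E, tm_E, cj_U, coe_itGL, coe_itGL_inv, transpose_mul, transpose_mul, mul_assoc]

theorem CB (σ : F ≃+* F) : C n F * B n F σ = B n F σ * C n F := by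
  refine Prod.ext (perm_ext fun M => ?_) (iot_mul_phi σ)
  change tm n F (fm n F σ (E n F M)) = fm n F σ (tm n F (E n F M))
  rw [fm_E, tm_E, tm_E, fm_E]
  rfl

theorem CC : C n F * C n F = 1 := by
  refine Prod.ext (perm_ext fun M => ?_) iot_mul_iot
  change tm n F (tm n F (E n F M)) = E n F M
  rw [tm_E, tm_E, transpose_transpose]

variable (n F) in
/-- the group of the pairs -/
noncomputable def HH : Subgroup (GG n F) where
  carrier := {p | (∃ g σ, p = A n F g * B n F σ) ∨ (3 ≤ n ∧ ∃ g σ, p = A n F g * B n F σ * C n F)}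
  one_mem' := Or.inl ⟨1, 1, by rw [map_one, map_one, one_mul]⟩
  mul_mem' := by
    rintro _ _ (⟨g, σ, rfl⟩ | ⟨hn, g, σ, rfl⟩) (⟨h, τ, rfl⟩ | ⟨hn', h, τ, rfl⟩)
    · refine Or.inl ⟨g * mapGL σ h, σ * τ, ?_⟩
      rw [map_mul, map_mul]
      calc A n F g * B n F σ * (A n F h * B n F τ) = A n F g * (B n F σ * A n F h) * B n F τ := by
            simp only [mul_assoc]
        _ = _ := by rw [BA]; simp only [mul_assoc]
    · refine Or.inr ⟨hn', g * mapGL σ h, σ * τ, ?_⟩
      rw [map_mul, map_mul]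
      calc A n F g * B n F σ * (A n F h * B n F τ * C n F) = A n F g * (B n F σ * A n F h) * B n F τ * C n F := by
            simp only [mul_assoc]
        _ = _ := by rw [BA]; simp only [mul_assoc]
    · refine Or.inr ⟨hn, g * mapGL σ (itGL h), σ * τ, ?_⟩
      rw [map_mul, map_mul]
      calc A n F g * B n F σ * C n F * (A n F h * B n F τ) = A n F g * B n F σ * (C n F * A n F h) * B n F τ := by
            simp only [mul_assoc]
        _ = A n F g * (B n F σ * A n F (itGL h)) * (C n F * B n F τ) := by rw [CA]; simp only [mul_assoc]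
        _ = _ := by rw [BA, CB]; simp only [mul_assoc]
    · refine Or.inl ⟨g * mapGL σ (itGL h), σ * τ, ?_⟩
      rw [map_mul, map_mul]
      calc A n F g * B n F σ * C n F * (A n F h * B n F τ * C n F) =
          A n F g * B n F σ * (C n F * A n F h) * B n F τ * C n F := by simp only [mul_assoc]
        _ = A n F g * (B n F σ * A n F (itGL h)) * (C n F * B n F τ) * C n F := by rw [CA]; simp only [mul_assoc]
        _ = A n F g * (A n F (mapGL σ (itGL h)) * B n F σ) * B n F τ * (C n F * C n F) := by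
            rw [BA, CB]; simp only [mul_assoc]
        _ = _ := by rw [CC]; simp only [mul_assoc, mul_one]
  inv_mem' := by
    rintro _ (⟨g, σ, rfl⟩ | ⟨hn, g, σ, rfl⟩)
    · refine Or.inl ⟨mapGL σ⁻¹ g⁻¹, σ⁻¹, ?_⟩
      rw [_root_.mul_inv_rev, ← map_inv, ← map_inv, BA]
    · refine Or.inr ⟨hn, itGL (mapGL σ⁻¹ g⁻¹), σ⁻¹, ?_⟩
      have hC : (C n F)⁻¹ = C n F := inv_eq_of_mul_eq_one_left CC
      rw [_root_.mul_inv_rev, _root_.mul_inv_rev, hC, ← map_inv, ← map_inv, BA, ← mul_assoc, CA, mul_assoc, CB, ← mul_assoc]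

theorem A_mem (g : GL (Fin n) F) : A n F g ∈ HH n F := Or.inl ⟨g, 1, by rw [map_one, mul_one]⟩

/-- the second projection is injective -/
theorem eq_one_of_snd (hn : 2 ≤ n) {p : GG n F} (hp : p ∈ HH n F) (h : p.2 = 1) : p = 1 := by
  rcases hp with ⟨g, σ, rfl⟩ | ⟨h3, g, σ, rfl⟩
  · have h1 : Psi n F g * phi n F σ = phi n F 1 := by rw [map_one]; exact h
    obtain ⟨⟨u, rfl⟩, rfl⟩ := Psi_phi_eq hn h1
    rw [map_one, mul_one]
    refine Prod.ext (perm_ext fun M => ?_) (Psi_scal u)
    change H198.FC.cj F (V n F) (U n F (scal n F u)) (E n F M) = E n F M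
    rw [cj_U, ← map_inv, coe_scal, coe_scal]
    congr 1
    rw [(Matrix.scalar_commute (u : F) (fun r => mul_comm _ r) M).eq, mul_assoc, ← map_mul, ← Units.val_mul,
      mul_inv_cancel, Units.val_one, map_one, mul_one]
  · exfalso
    refine not_graph' h3 (g := g) (σ := σ) (τ := 1) ?_
    rw [map_one]
    exact h

/-- the first projection is injective -/
theorem eq_one_of_fst {p : GG n F} (hp : p ∈ HH n F) (h : p.1 = 1) : p = 1 := by
  rcases hp with ⟨g, σ, rfl⟩ | ⟨h3, g, σ, rfl⟩
  · have h1 : ∀ M : Matrix (Fin n) (Fin n) F,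
        (g : Matrix (Fin n) (Fin n) F) * M.map σ * ((g⁻¹ : GL (Fin n) F) : Matrix (Fin n) (Fin n) F) = M := by
      intro M
      have h2 : H198.FC.cj F (V n F) (U n F g) (fm n F σ (E n F M)) = E n F M := DFunLike.congr_fun h (E n F M)
      rw [fm_E, cj_U] at h2
      exact (E n F).injective h2
    refine Prod.ext h (MulEquiv.ext fun x => ?_)
    obtain ⟨s, rfl⟩ := pr_surjective x
    change Psi n F g (phi n F σ (pr s)) = pr s
    rw [phi_pr, Psi_pr]
    congr 1
    apply Subtype.ext
    exact h1 s.1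
  · exfalso
    have ha : (A n F g * B n F σ).1 ∈ RP F (V n F) := mul_mem (cj_mem_RP _) (fm_mem σ)
    have hc : ∀ X Y : R F (V n F), (A n F g * B n F σ).1 (tm n F (X * Y)) = X * Y := fun X Y => DFunLike.congr_fun h (X * Y)
    have hd : ∀ X : R F (V n F), (A n F g * B n F σ).1 (tm n F X) = X := fun X => DFunLike.congr_fun h X
    have hcomm : ∀ M N : Matrix (Fin n) (Fin n) F, M * N = N * M := by
      intro M N
      apply (E n F).injective
      rw [map_mul, map_mul, ← hc, ← map_mul, tm_E, transpose_mul, map_mul, ha.2, ← tm_E, ← tm_E, hd, hd]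
    have hij : (⟨0, by omega⟩ : Fin n) ≠ ⟨1, by omega⟩ := by
      intro e
      have h5 : (0 : ℕ) = 1 := congrArg Fin.val e
      omega
    have h4 := congrFun (congrFun (hcomm (Matrix.single ⟨0, by omega⟩ ⟨1, by omega⟩ 1)
      (Matrix.single ⟨1, by omega⟩ ⟨0, by omega⟩ 1)) ⟨0, by omega⟩) ⟨0, by omega⟩
    rw [Matrix.single_mul_single_same, Matrix.single_mul_single_same, Matrix.single_apply_same,
      Matrix.single_apply_of_ne] at h4
    · simp at h4
    · rintro ⟨e, -⟩
      exact hij e.symm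

end

section

variable {n : ℕ} {F : Type} [Field F] [Fintype F]

/-- the second projection is onto -/
theorem exists_pair (hn : 2 ≤ n) (α : MulAut (Matrix.ProjectiveSpecialLinearGroup (Fin n) F)) :
    ∃ p ∈ HH n F, p.2 = α := by
  rcases exists_form hn α with ⟨g, σ, rfl⟩ | ⟨h3, g, σ, rfl⟩
  · exact ⟨A n F g * B n F σ, Or.inl ⟨g, σ, rfl⟩, rfl⟩
  · exact ⟨A n F g * B n F σ * C n F, Or.inr ⟨h3, g, σ, rfl⟩, rfl⟩

theorem fst_mem {p : GG n F} (hp : p ∈ HH n F) : p.1 ∈ RA F (V n F) := by
  rcases hp with ⟨g, σ, rfl⟩ | ⟨h3, g, σ, rfl⟩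
  · exact RP_le_RA (mul_mem (cj_mem_RP _) (fm_mem σ))
  · exact mul_mem (mul_mem (RP_le_RA (cj_mem_RP _)) (RP_le_RA (fm_mem σ))) tm_mem

theorem fst_mem_two (hn : n = 2) {p : GG n F} (hp : p ∈ HH n F) : p.1 ∈ RP F (V n F) := by
  rcases hp with ⟨g, σ, rfl⟩ | ⟨h3, g, σ, rfl⟩
  · exact mul_mem (cj_mem_RP _) (fm_mem σ)
  · omega

end

/-- **L-AUT** -/
theorem stmtAutL (h : ThmL.{0, 0}) : StmtAutL := by
  intro F _ _ n hn h2 S hS
  -- the pairs over `S`
  let T : Subgroup (GG n F) := HH n F ⊓ S.comap (MonoidHom.snd _ _)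
  have hT : Group.IsSolvable T := by
    let f : T →* S := ((MonoidHom.snd _ _).comp T.subtype).codRestrict S fun p => p.2.2
    have hf : Function.Injective f := by
      rw [injective_iff_map_eq_one]
      intro p hp
      apply Subtype.ext
      exact eq_one_of_snd hn p.2.1 (congrArg Subtype.val hp)
    exact Group.isSolvable_of_isSolvable_injective hf
  let S' : Subgroup (Equiv.Perm (R F (V n F))) := T.map (MonoidHom.fst _ _)
  have hS' : Group.IsSolvable S' :=
    Group.isSolvable_of_surjective (MonoidHom.subgroupMap_surjective (MonoidHom.fst _ _) T)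
  have hfr : Module.finrank F (V n F) = n := by simp [V]
  obtain ⟨x, hx, hfive⟩ := h F (V n F) (by rw [hfr]; exact hn)
    (by rw [hfr, Nat.card_eq_fintype_card]; exact h2) S'
    (by
      rintro _ ⟨p, hp, rfl⟩
      exact fst_mem hp.1)
    (by
      rw [hfr]
      rintro e _ ⟨p, hp, rfl⟩
      exact fst_mem_two e hp.1) hS'
  -- matrices of the `x i`
  have hs : ∀ i, ∃ s : Matrix.SpecialLinearGroup (Fin n) F, U n F (s : GL (Fin n) F) = x i := by
    intro i
    refine ⟨⟨(E n F).symm (x i : R F (V n F)), ?_⟩, ?_⟩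
    · have h1 := LinearMap.det_toMatrix' (x i : R F (V n F))
      rw [hx i] at h1
      exact h1
    · apply Units.ext
      rw [coe_U]
      exact (E n F).apply_symm_apply _
  choose s hs using hs
  refine ⟨fun i => pr (s i), fun α hα hi => ?_⟩
  obtain ⟨p, hp, rfl⟩ := exists_pair hn α
  have hpT : p ∈ T := ⟨hp, hα⟩
  have h1 : p.1 = 1 := by
    refine hfive p.1 ⟨p, hpT, rfl⟩ fun i => ?_
    refine ⟨A n F (s i) * p * (A n F (s i))⁻¹, ⟨mul_mem (mul_mem (A_mem _) hp) ((HH n F).inv_mem (A_mem _)), ?_⟩, ?_⟩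
    · have h3 := hi i
      rw [← Psi_coe] at h3
      exact h3
    · rw [← hs i]
      rfl
  rw [eq_one_of_fst hp h1]
  rfl

end Cfsg.Agent.H602.FC
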